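import Cfsg.Agent.Lib.Char.PermRelation
import Cfsg.Agent.Lib.CharInt.Galois
import Mathlib.GroupTheory.GroupAction.MultipleTransitivity

/-!
The constituents of the permutation character of a primitive group of degree `2p` in which an
element of order `p` has no fixed point.

* `exists_sumOn`, `sum_mult_sumOn`: multiplicities of the trivial character on subgroups;
* `kernel_trivial`: non-principal constituents of a primitive permutation character are faithful;
* `constituents`: rank two, rank three with degrees `p`, `p - 1`, or a small faithful character.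
-/

set_option autoImplicit false
set_option linter.style.haveILetI false
set_option linter.unusedSectionVars false

namespace Cfsg.Agent.TwoP

open Cfsg Cfsg.Agent.Char
open scoped ComplexConjugate

universe u v

variable {G : Type u} [Group G] [Fintype G] {Ω : Type v} [Fintype Ω] [MulAction G Ω]

open scoped Classical in
/-- A character summed over a subgroup is a multiple of its order. -/
theorem exists_sumOn {χ : G → ℂ} (hχ : IsCharacter G χ) (K : Subgroup G) :
    ∃ a : ℕ, ∑ k : K, χ k = (Nat.card K : ℂ) * a := by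
  obtain ⟨a, ha⟩ := IsCharacter.exists_nat_classInner (IsCharacter.restrict hχ K)
    (isCharacter_one (G := K))
  refine ⟨a, ?_⟩
  rw [← ha, classInner, ← mul_assoc, mul_inv_cancel₀ (Nat.cast_ne_zero.2 Nat.card_pos.ne'),
    one_mul]
  simp

/-- The permutation character is the sum of its constituents. -/
theorem permChar_eq (m : IrrCharacter G → ℕ)
    (hm : ∀ χ, classInner (permRep ℂ G Ω).character χ.1 = m χ) (g : G) :
    (Nat.card (MulAction.fixedBy Ω g) : ℂ) = ∑ χ : IrrCharacter G, (m χ : ℂ) * χ.1 g := by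
  have h := congrFun (eq_sum_classInner_smul
    (IsCharacter.isClassFunction (isCharacter_character (permRep ℂ G Ω)))) g
  simp only [hm, Finset.sum_apply, Pi.smul_apply, smul_eq_mul] at h
  rw [← h, PermConstituent.character_permRep]

open scoped Classical in
theorem sum_mult_sumOn (m : IrrCharacter G → ℕ)
    (hm : ∀ χ, classInner (permRep ℂ G Ω).character χ.1 = m χ) (K : Subgroup G)
    (a : IrrCharacter G → ℕ) (ha : ∀ χ, ∑ k : K, χ.1 k = (Nat.card K : ℂ) * a χ) :
    ∑ χ : IrrCharacter G, m χ * a χ = Nat.card (Quotient (MulAction.orbitRel K Ω)) := by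
  have h1 := classInner_fixedBy_one (G := K) Ω
  rw [classInner] at h1
  have h2 : ∑ k : K, (Nat.card (MulAction.fixedBy Ω k) : ℂ) * conj (1 : ℂ) =
      (Nat.card K : ℂ) * (∑ χ : IrrCharacter G, m χ * a χ : ℕ) := by
    simp only [map_one, mul_one]
    have e : ∀ k : K, (Nat.card (MulAction.fixedBy Ω k) : ℂ) =
        ∑ χ : IrrCharacter G, (m χ : ℂ) * χ.1 k := fun k => permChar_eq m hm (k : G)
    rw [Finset.sum_congr rfl fun k _ => e k, Finset.sum_comm, Nat.cast_sum, Finset.mul_sum]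
    refine Finset.sum_congr rfl fun χ _ => ?_
    rw [← Finset.mul_sum, ha χ]
    push_cast
    ring
  rw [h2, ← mul_assoc, inv_mul_cancel₀ (Nat.cast_ne_zero.2 Nat.card_pos.ne'), one_mul] at h1
  exact_mod_cast h1

open scoped Classical in
/-- A non-principal constituent of a primitive faithful permutation character is faithful. -/
theorem kernel_trivial [FaithfulSMul G Ω] [MulAction.IsPreprimitive G Ω]
    (m : IrrCharacter G → ℕ)
    (hm : ∀ χ, classInner (permRep ℂ G Ω).character χ.1 = m χ)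
    (hm1 : m (trivialChar G) = 1) (χ : IrrCharacter G) (hne : χ ≠ trivialChar G) (hmχ : m χ ≠ 0)
    (g : G) (hg : χ.1 g = χ.1 1) : g = 1 := by
  by_contra hg1
  obtain ⟨z, hz⟩ : ∃ z : Ω, g • z ≠ z := by
    by_contra h
    exact hg1 (eq_of_smul_eq_smul (α := Ω) fun z => by
      rw [one_smul]; exact not_not.1 fun hz => h ⟨z, hz⟩)
  set N := CharInt.charKernel (irr_isCharacter χ) with hN
  haveI : N.Normal := CharInt.charKernel_normal (irr_isCharacter χ)
  have hgN : g ∈ N := (CharInt.mem_charKernel (irr_isCharacter χ)).2 hg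
  have htrans : MulAction.IsPretransitive N Ω := by
    refine MulAction.IsQuasiPreprimitive.isPretransitive_of_normal fun h => hz ?_
    have : z ∈ MulAction.fixedPoints N Ω := h ▸ Set.mem_univ z
    exact this ⟨g, hgN⟩
  choose a ha using fun ψ : IrrCharacter G => exists_sumOn (irr_isCharacter ψ) N
  have hsum := sum_mult_sumOn m hm N a ha
  rw [PermConstituent.card_orbits_eq_one (G := N) z] at hsum
  have hN0 : (Nat.card N : ℂ) ≠ 0 := Nat.cast_ne_zero.2 Nat.card_pos.ne'
  have h1 : a (trivialChar G) = 1 := by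
    have h := ha (trivialChar G)
    simp only [trivialChar_apply, Finset.sum_const, Finset.card_univ, nsmul_eq_mul, mul_one,
      ← Nat.card_eq_fintype_card] at h
    have h' := mul_left_cancel₀ hN0 ((mul_one _).trans h)
    exact_mod_cast h'.symm
  have h2 : a χ ≠ 0 := by
    intro h0
    have h := ha χ
    rw [h0, Nat.cast_zero, mul_zero, Finset.sum_congr rfl
      (fun k _ => (CharInt.mem_charKernel (irr_isCharacter χ)).1 (k : N).2 : ∀ k ∈ (Finset.univ : Finset N),
        χ.1 k = χ.1 1), Finset.sum_const, Finset.card_univ, nsmul_eq_mul,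
      ← Nat.card_eq_fintype_card] at h
    rcases mul_eq_zero.1 h with h | h
    · exact hN0 h
    · exact IsIrrCharacter.apply_one_ne_zero χ.2 h
  have hle : m (trivialChar G) * a (trivialChar G) + m χ * a χ ≤ 1 := by
    rw [← hsum]
    exact Finset.add_le_sum (fun i _ => Nat.zero_le (m i * a i)) (Finset.mem_univ _)
      (Finset.mem_univ _) (Ne.symm hne)
  rw [hm1, h1] at hle
  have := Nat.mul_pos (Nat.pos_of_ne_zero hmχ) (Nat.pos_of_ne_zero h2)
  omega

theorem fixedBy_pow_eq {g : G} {k : ℕ} (hk : k.Coprime (orderOf g)) :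
    MulAction.fixedBy Ω (g ^ k) = MulAction.fixedBy Ω g := by
  obtain ⟨j, hj⟩ := exists_pow_eq_self_of_coprime hk
  ext z
  have hpow : ∀ (h : G) (n : ℕ), h • z = z → h ^ n • z = z := fun h n hz => by
    induction n with
    | zero => rw [pow_zero, one_smul]
    | succ n ih => rw [pow_succ, mul_smul, hz, ih]
  constructor
  · intro h
    show g • z = z
    rw [← hj]; exact hpow _ _ h
  · exact hpow g k

theorem sum_pow_coprime {H : Type*} [Group H] [Fintype H] {k : ℕ} (hk : (Nat.card H).Coprime k)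
    (f : H → ℂ) : ∑ g : H, f (g ^ k) = ∑ g : H, f g :=
  Fintype.sum_equiv (powCoprime hk) _ _ fun _ => rfl

open scoped Classical in
/-- Galois conjugate of an irreducible character. -/
theorem exists_powChar (m : IrrCharacter G → ℕ)
    (hm : ∀ χ, classInner (permRep ℂ G Ω).character χ.1 = m χ) (χ : IrrCharacter G)
    {k : ℕ} (hk : k.Coprime (Nat.card G)) :
    ∃ ψ : IrrCharacter G, ψ.1 = (fun g => χ.1 (g ^ k)) ∧ m ψ = m χ ∧
      ∀ K : Subgroup G, ∑ y : K, ψ.1 y = ∑ y : K, χ.1 y := by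
  refine ⟨⟨_, CharInt.isIrrCharacter_pow χ.2 hk⟩, rfl, ?_, fun K => ?_⟩
  · have h : classInner (permRep ℂ G Ω).character (fun g => χ.1 (g ^ k)) =
        classInner (permRep ℂ G Ω).character χ.1 := by
      simp only [classInner, PermConstituent.character_permRep]
      congr 1
      rw [← sum_pow_coprime (Nat.Coprime.symm hk)
        (fun g => (Nat.card (MulAction.fixedBy Ω g) : ℂ) * conj (χ.1 g))]
      refine Finset.sum_congr rfl fun g _ => ?_
      rw [fixedBy_pow_eq (hk.coprime_dvd_right (orderOf_dvd_natCard g))]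
    have h2 := hm ⟨_, CharInt.isIrrCharacter_pow χ.2 hk⟩
    rw [h, hm] at h2
    exact_mod_cast h2.symm
  · exact sum_pow_coprime ((hk.symm).coprime_dvd_left (Subgroup.card_subgroup_dvd_card K))
      (fun y : K => χ.1 y)

theorem exists_int_of_mul {z : ℂ} (hz : IsIntegral ℤ z) {n : ℤ} {d : ℕ} (hd : d ≠ 0)
    (h : (d : ℂ) * z = n) : ∃ w : ℤ, z = w := by
  have hd' : (d : ℂ) ≠ 0 := Nat.cast_ne_zero.2 hd
  have hq : z = (((n : ℚ) / d : ℚ) : ℂ) := by
    push_cast
    rw [eq_div_iff hd', mul_comm, h]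
  rw [hq] at hz ⊢
  have hq' : IsIntegral ℤ ((n : ℚ) / d) :=
    (isIntegral_algebraMap_iff (R := ℤ) (algebraMap ℚ ℂ).injective).1 (by simpa using hz)
  obtain ⟨w, hw⟩ := (IsIntegrallyClosed.isIntegral_iff (R := ℤ) (K := ℚ)).1 hq'
  refine ⟨w, ?_⟩
  rw [← hw]
  simp

open scoped Classical in
/-- The possible constituents of the permutation character. -/
theorem constituents [FaithfulSMul G Ω] [MulAction.IsPreprimitive G Ω] {p : ℕ} [Fact p.Prime]
    (h3 : 3 ≤ p) (hΩ : Fintype.card Ω = 2 * p) {x : G} (hx : orderOf x = p)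
    (hfix : ∀ z : Ω, x • z ≠ z) (a₀ : Ω) :
    Nat.card (MulAction.orbitRel.Quotient (MulAction.stabilizer G a₀) Ω) = 2 ∨
    (Nat.card (MulAction.orbitRel.Quotient (MulAction.stabilizer G a₀) Ω) = 3 ∧
      ∃ χp χq : IrrCharacter G, χp.1 1 = (p : ℂ) ∧ χq.1 1 = (p : ℂ) - 1 ∧ χp.1 x = 0 ∧
        χq.1 x = -1 ∧
        classInner (permRep ℂ G Ω).character χp.1 = 1 ∧
        classInner (permRep ℂ G Ω).character χq.1 = 1 ∧
        ∀ χ : G → ℂ, IsIrrCharacter G χ →
          classInner (permRep ℂ G Ω).character χ = 0 ∨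
            classInner (permRep ℂ G Ω).character χ = 1) ∨
    ∃ χ : IrrCharacter G, (∀ g, χ.1 g = χ.1 1 → g = 1) ∧ 2 * degree χ + 1 ≤ p := by
  have hp : p.Prime := Fact.out
  obtain ⟨m, hm, hm1, hcard, hrank⟩ := PermConstituent.exists_mult_spec (G := G) (Ω := Ω) a₀
  set P := Subgroup.zpowers x with hP
  have hPc : Nat.card P = p := by rw [hP, Nat.card_zpowers, hx]
  have hgen : ∀ y ∈ P, y ≠ 1 → ∀ z : Ω, y • z ≠ z := by
    intro y hy hy1 z hyz
    have hzp : Subgroup.zpowers y = P := by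
      refine Subgroup.eq_of_le_of_card_ge ((Subgroup.zpowers_le).2 hy) ?_
      have h := Subgroup.orderOf_dvd_natCard _ hy
      rw [hPc] at h
      rw [hPc, Nat.card_zpowers,
        ((Nat.dvd_prime hp).1 h).resolve_left fun h' => hy1 (orderOf_eq_one_iff.1 h')]
    have hxy : x ∈ Subgroup.zpowers y := hzp.symm ▸ Subgroup.mem_zpowers x
    exact hfix z ((Subgroup.zpowers_le).2 (show y ∈ MulAction.stabilizer G z from hyz) hxy)
  choose a ha using fun χ : IrrCharacter G => exists_sumOn (irr_isCharacter χ) P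
  have hpne : (p : ℂ) ≠ 0 := Nat.cast_ne_zero.2 hp.ne_zero
  have htriv : degree (trivialChar G) = 1 := by
    have := (apply_one_eq_degree (trivialChar G)).symm
    rw [trivialChar_apply] at this
    exact_mod_cast this
  have ha1 : a (trivialChar G) = 1 := by
    have h := ha (trivialChar G)
    simp only [trivialChar_apply, Finset.sum_const, Finset.card_univ, nsmul_eq_mul, mul_one,
      ← Nat.card_eq_fintype_card, hPc] at h
    have h' := mul_left_cancel₀ hpne ((mul_one _).trans h)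
    exact_mod_cast h'.symm
  -- `P` has two orbits
  have hma : ∑ χ : IrrCharacter G, m χ * a χ = 2 := by
    have h : ∑ k : P, (Nat.card (MulAction.fixedBy Ω (k : G)) : ℂ) = (p : ℂ) * 2 := by
      rw [Finset.sum_eq_single (1 : P)]
      · rw [OneMemClass.coe_one, MulAction.fixedBy_one_eq_univ, Nat.card_congr (Equiv.Set.univ Ω),
          Nat.card_eq_fintype_card, hΩ]
        push_cast; ring
      · intro k _ hk
        rw [show MulAction.fixedBy Ω (k : G) = ∅ from Set.eq_empty_iff_forall_notMem.2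
          fun z hz => hgen k k.2 (fun h => hk (Subtype.ext h)) z hz]
        simp
      · simp
    rw [Finset.sum_congr rfl fun (k : P) _ => permChar_eq m hm (k : G), Finset.sum_comm] at h
    simp only [← Finset.mul_sum, ha, hPc] at h
    have h' : (p : ℂ) * ((∑ χ : IrrCharacter G, m χ * a χ : ℕ) : ℂ) = (p : ℂ) * 2 := by
      rw [← h, Nat.cast_sum, Finset.mul_sum]
      exact Finset.sum_congr rfl fun χ _ => by push_cast; ring
    exact_mod_cast mul_left_cancel₀ hpne h'
  -- constituents fixed by the Galois group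
  have hgal : ∀ χ : IrrCharacter G, (∀ k : ℕ, k.Coprime (Nat.card G) → χ.1 (x ^ k) = χ.1 x) →
      ∃ z : ℤ, χ.1 x = z ∧ (degree χ : ℤ) + ((p : ℤ) - 1) * z = (p : ℤ) * a χ := by
    intro χ hχ
    have hconst : ∀ y : P, y ≠ 1 → χ.1 y = χ.1 x := by
      intro y hy
      obtain ⟨j, hj⟩ : ∃ j : ℕ, x ^ j = (y : G) :=
        (mem_powers_iff_mem_zpowers.2 y.2)
      have hjp : j.Coprime (orderOf x) := by
        rw [hx]
        refine ((hp.coprime_iff_not_dvd).2 fun ⟨c, hc⟩ => hy (Subtype.ext ?_)).symm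
        rw [← hj, hc, pow_mul, ← hx, pow_orderOf_eq_one, one_pow]
        rfl
      obtain ⟨k, hk, hk'⟩ := CharInt.exists_coprime_pow_eq x hjp
      rw [← hj, ← hk', hχ k hk]
    have hsum : (degree χ : ℂ) + ((p : ℂ) - 1) * χ.1 x = (p : ℂ) * a χ := by
      rw [← hPc, ← ha χ, ← Finset.add_sum_erase _ _ (Finset.mem_univ (1 : P)),
        Finset.sum_congr rfl fun y hy => hconst y (Finset.mem_erase.1 hy).1, Finset.sum_const,
        Finset.card_erase_of_mem (Finset.mem_univ _), Finset.card_univ, ← Nat.card_eq_fintype_card,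
        hPc, OneMemClass.coe_one, apply_one_eq_degree, nsmul_eq_mul,
        Nat.cast_sub hp.one_lt.le, Nat.cast_one]
    obtain ⟨z, hz⟩ := exists_int_of_mul (CharInt.isIntegral_char (irr_isCharacter χ) x)
      (n := (p : ℤ) * a χ - degree χ) (d := p - 1) (by omega) (by
        rw [Nat.cast_sub hp.one_lt.le, Nat.cast_one]
        push_cast
        linear_combination hsum)
    refine ⟨z, hz, ?_⟩
    rw [hz] at hsum
    exact_mod_cast hsum
  -- the constituent that meets `1_P`
  set E := Finset.univ.erase (trivialChar G) with hE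
  have hE1 : ∑ χ ∈ E, m χ * a χ = 1 := by
    rw [← Finset.add_sum_erase _ _ (Finset.mem_univ (trivialChar G)), hm1, ha1, ← hE] at hma
    omega
  obtain ⟨χ₁, hχ₁, hχ₁0⟩ := Finset.exists_ne_zero_of_sum_ne_zero (hE1.trans_ne one_ne_zero)
  have h11 : m χ₁ * a χ₁ + ∑ χ ∈ E.erase χ₁, m χ * a χ = 1 := by
    exact (Finset.add_sum_erase E (fun χ => m χ * a χ) hχ₁).trans hE1
  have hm₁ : m χ₁ = 1 := Nat.eq_one_of_mul_eq_one_right (by omega : m χ₁ * a χ₁ = 1)
  have ha₁ : a χ₁ = 1 := Nat.eq_one_of_mul_eq_one_left (by omega : m χ₁ * a χ₁ = 1)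
  have hzero : ∀ χ ∈ E.erase χ₁, m χ ≠ 0 → a χ = 0 := by
    intro χ hχ hmχ
    have h := Finset.single_le_sum (f := fun χ => m χ * a χ) (fun i _ => Nat.zero_le _) hχ
    have h0 : m χ * a χ = 0 := by omega
    exact (Nat.mul_eq_zero.1 h0).resolve_left hmχ
  have hne₁ : χ₁ ≠ trivialChar G := (Finset.mem_erase.1 hχ₁).1
  have hfaith := fun (χ : IrrCharacter G) (h1 : χ ≠ trivialChar G) (h2 : m χ ≠ 0) =>
    kernel_trivial m hm hm1 χ h1 h2
  have haK : ∀ χ ψ : IrrCharacter G, (∑ y : P, ψ.1 y = ∑ y : P, χ.1 y) → a ψ = a χ := by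
    intro χ ψ h
    rw [ha, ha, hPc] at h
    exact_mod_cast mul_left_cancel₀ hpne h
  have hne_triv : ∀ (χ ψ : IrrCharacter G) (k : ℕ), k.Coprime (Nat.card G) →
      ψ.1 = (fun g => χ.1 (g ^ k)) → χ ≠ trivialChar G → ψ ≠ trivialChar G := by
    intro χ ψ k hk he hne h
    refine hne (Subtype.ext (funext fun g => ?_))
    obtain ⟨g', rfl⟩ := (powCoprime hk.symm).surjective g
    show χ.1 (g' ^ k) = _
    rw [← congrFun he g', h]
    rfl
  -- it is invariant
  obtain ⟨z₁, hz₁, hz₁'⟩ := hgal χ₁ fun k hk => by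
    obtain ⟨ψ, hψ, hmψ, hsψ⟩ := exists_powChar m hm χ₁ hk
    have hψE : ψ ∈ E := Finset.mem_erase.2 ⟨hne_triv χ₁ ψ k hk hψ hne₁, Finset.mem_univ _⟩
    by_cases he : ψ = χ₁
    · exact (congrFun hψ x).symm.trans (by rw [he])
    · have := hzero ψ (Finset.mem_erase.2 ⟨he, hψE⟩) (by rw [hmψ, hm₁]; exact one_ne_zero)
      rw [haK χ₁ ψ (hsψ P), ha₁] at this
      exact absurd this one_ne_zero
  rw [ha₁, Nat.cast_one, mul_one] at hz₁'
  have hd₁ : χ₁.1 1 = (degree χ₁ : ℂ) := apply_one_eq_degree χ₁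
  have hdeg : 2 * p = 1 + degree χ₁ + ∑ χ ∈ E.erase χ₁, m χ * degree χ := by
    rw [← hΩ, hcard, ← Finset.add_sum_erase _ _ (Finset.mem_univ (trivialChar G)), hm1, htriv,
      ← hE, ← Finset.add_sum_erase _ _ hχ₁, hm₁, one_mul, one_mul, add_assoc]
  have hrk : Nat.card (MulAction.orbitRel.Quotient (MulAction.stabilizer G a₀) Ω) =
      2 + ∑ χ ∈ E.erase χ₁, m χ * m χ := by
    rw [hrank, ← Finset.add_sum_erase _ _ (Finset.mem_univ (trivialChar G)), hm1,
      ← hE, ← Finset.add_sum_erase _ _ hχ₁, hm₁]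
    ring
  have hb0 : z₁ ≠ 1 := by
    rintro rfl
    have h1 : degree χ₁ = 1 := by omega
    have := hfaith χ₁ hne₁ (by omega) x (by rw [hd₁, h1, hz₁]; simp)
    rw [this, orderOf_one] at hx
    exact hp.one_lt.ne hx
  have hpos := degree_pos χ₁
  rcases (show z₁ = 0 ∨ z₁ ≤ -1 by
    rcases lt_or_ge z₁ 1 with h | h
    · omega
    · exfalso
      have : ((p : ℤ) - 1) * 2 ≤ ((p : ℤ) - 1) * z₁ :=
        mul_le_mul_of_nonneg_left (by omega) (by omega)
      omega) with rfl | hle
  swap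
  · -- rank two
    have h2 : ((p : ℤ) - 1) * z₁ ≤ ((p : ℤ) - 1) * (-1) :=
      mul_le_mul_of_nonneg_left hle (by omega)
    have h0 : ∑ χ ∈ E.erase χ₁, m χ * degree χ = 0 := by omega
    refine Or.inl (hrk.trans ?_)
    refine (congrArg (2 + ·) (Finset.sum_eq_zero ?_)).trans (add_zero 2)
    intro χ hχ
    have := Finset.sum_eq_zero_iff.1 h0 χ hχ
    rcases Nat.mul_eq_zero.1 this with h | h
    · rw [h, zero_mul]
    · exact absurd h (degree_pos χ).ne'
  -- the constituent of degree `p`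
  have hdp : degree χ₁ = p := by omega
  rw [hdp] at hdeg
  obtain ⟨χ, hχ, hχ0⟩ := Finset.exists_ne_zero_of_sum_ne_zero
    (show ∑ χ ∈ E.erase χ₁, m χ * degree χ ≠ 0 by omega)
  obtain ⟨hχ1, hχE⟩ := Finset.mem_erase.1 hχ
  have hχne : χ ≠ trivialChar G := (Finset.mem_erase.1 hχE).1
  have hmχ : m χ ≠ 0 := fun h => hχ0 (by rw [h, zero_mul])
  have haχ := hzero χ hχ hmχ
  by_cases hinv : ∀ k : ℕ, k.Coprime (Nat.card G) → χ.1 (x ^ k) = χ.1 x
  · obtain ⟨z, hz, hz'⟩ := hgal χ hinv
    rw [haχ, Nat.cast_zero, mul_zero] at hz'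
    have hdχ := degree_pos χ
    have hzneg : z ≤ -1 := by
      by_contra h
      have : 0 ≤ ((p : ℤ) - 1) * z := mul_nonneg (by omega) (by omega)
      omega
    have hge : p - 1 ≤ degree χ := by
      have : ((p : ℤ) - 1) * z ≤ ((p : ℤ) - 1) * (-1) := mul_le_mul_of_nonneg_left hzneg (by omega)
      omega
    have hsp : m χ * degree χ + ∑ ψ ∈ (E.erase χ₁).erase χ, m ψ * degree ψ = p - 1 := by
      rw [Finset.add_sum_erase _ (fun ψ => m ψ * degree ψ) hχ]; omega
    have h1 : degree χ ≤ m χ * degree χ := Nat.le_mul_of_pos_left _ (Nat.pos_of_ne_zero hmχ)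
    have hdq : degree χ = p - 1 := by omega
    have hmq : m χ = 1 := by
      have : m χ * degree χ = 1 * degree χ := by omega
      exact Nat.eq_of_mul_eq_mul_right hdχ this
    have hrest : ∀ ψ ∈ (E.erase χ₁).erase χ, m ψ = 0 := by
      intro ψ hψ
      have h := Finset.single_le_sum (f := fun ψ => m ψ * degree ψ) (fun i _ => Nat.zero_le _) hψ
      have h0 : m ψ * degree ψ = 0 := by omega
      exact (Nat.mul_eq_zero.1 h0).resolve_right (degree_pos ψ).ne'
    have hzeq : z = -1 := by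
      have h2 : ((p : ℤ) - 1) * (z + 1) = 0 := by
        rw [hdq, Nat.cast_sub hp.one_lt.le] at hz'
        linear_combination hz'
      rcases mul_eq_zero.1 h2 with h | h <;> omega
    refine Or.inr (Or.inl ⟨?_, χ₁, χ, ?_, ?_, ?_, ?_, ?_, ?_, fun ψ hψ => ?_⟩)
    · rw [hrk, ← Finset.add_sum_erase _ _ hχ, hmq,
        Finset.sum_eq_zero fun ψ hψ => by rw [hrest ψ hψ, zero_mul]]; rfl
    · rw [hd₁, hdp]
    · rw [apply_one_eq_degree, hdq, Nat.cast_sub hp.one_lt.le, Nat.cast_one]
    · rw [hz₁]; simp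
    · rw [hz, hzeq]; simp
    · rw [hm, hm₁, Nat.cast_one]
    · rw [hm, hmq, Nat.cast_one]
    · rw [hm ⟨ψ, hψ⟩]
      by_cases h1 : (⟨ψ, hψ⟩ : IrrCharacter G) = trivialChar G
      · rw [h1, hm1, Nat.cast_one]; exact Or.inr rfl
      by_cases h2 : (⟨ψ, hψ⟩ : IrrCharacter G) = χ₁
      · rw [h2, hm₁, Nat.cast_one]; exact Or.inr rfl
      by_cases h3 : (⟨ψ, hψ⟩ : IrrCharacter G) = χ
      · rw [h3, hmq, Nat.cast_one]; exact Or.inr rfl
      rw [hrest _ (Finset.mem_erase.2 ⟨h3, Finset.mem_erase.2 ⟨h2, Finset.mem_erase.2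
        ⟨h1, Finset.mem_univ _⟩⟩⟩), Nat.cast_zero]
      exact Or.inl rfl
  · -- two conjugate constituents share `p - 1`
    push Not at hinv
    obtain ⟨k, hk, hkne⟩ := hinv
    obtain ⟨ψ, hψ, hmψ, hsψ⟩ := exists_powChar m hm χ hk
    have hψχ : ψ ≠ χ := fun h => hkne (by rw [← congrFun hψ x, h])
    have hψ1 : ψ ≠ χ₁ := fun h => by
      have := haK χ ψ (hsψ P)
      rw [h, ha₁, haχ] at this
      exact one_ne_zero this
    have hψE : ψ ∈ E.erase χ₁ := Finset.mem_erase.2 ⟨hψ1,
      Finset.mem_erase.2 ⟨hne_triv χ ψ k hk hψ hχne, Finset.mem_univ _⟩⟩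
    have hdψ : degree ψ = degree χ := by
      have h : (degree ψ : ℂ) = degree χ := by
        rw [← apply_one_eq_degree, ← apply_one_eq_degree, congrFun hψ 1, one_pow]
      exact_mod_cast h
    have h2 : m χ * degree χ + m ψ * degree ψ ≤ ∑ χ ∈ E.erase χ₁, m χ * degree χ :=
      Finset.add_le_sum (f := fun χ => m χ * degree χ) (fun i _ => Nat.zero_le _) hχ hψE hψχ.symm
    rw [hmψ, hdψ] at h2
    have h1 : degree χ ≤ m χ * degree χ := Nat.le_mul_of_pos_left _ (Nat.pos_of_ne_zero hmχ)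
    exact Or.inr (Or.inr ⟨χ, hfaith χ hχne hmχ, by omega⟩)

end Cfsg.Agent.TwoP
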