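import Cfsg.Agent.Lib.PSL2.DicksonOrders
import Cfsg.Agent.Lib.Char.Basic

/-!
`PSL(2, p)` with a maximal subgroup of index `2p` and a faithful character of degree `(p - 1) / 2`
does not exist.

* `card_le_or_eq`: subgroups of order `(p² - 1) / 4` of `PSL(2, p)` force `p ≤ 7`;
* `false_of_index`: the contradiction.
-/

set_option autoImplicit false
set_option linter.style.haveILetI false

open Matrix
open scoped MatrixGroups

namespace Cfsg.Agent.TwoP

theorem eq_five_or_seven {p : ℕ} [Fact p.Prime] (h5 : 5 ≤ p) (H : Subgroup PSL(2, ZMod p))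
    (hH : 4 * Nat.card H + 1 = p ^ 2) : p = 5 ∨ p = 7 := by
  have hp : p.Prime := Fact.out
  have hcardF : Fintype.card (ZMod p) = p := ZMod.card p
  obtain ⟨j, hj⟩ := hp.odd_of_ne_two (by omega)
  have hgcd : Nat.gcd 2 (p - 1) = 2 := Nat.gcd_eq_left ⟨j, by omega⟩
  have hsmall : Nat.card H ≤ p + 1 → p = 5 ∨ p = 7 := by
    intro h
    have : p < 6 := by
      by_contra h6
      have : p * 6 ≤ p ^ 2 := by rw [sq]; exact Nat.mul_le_mul_left p (by omega)
      omega
    omega
  have hexc : Nat.card H = 12 ∨ Nat.card H = 24 ∨ Nat.card H = 60 → p = 5 ∨ p = 7 := by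
    intro h
    have hlt : p < 16 := by
      by_contra h16
      have := Nat.pow_le_pow_left (show 16 ≤ p by omega) 2
      omega
    interval_cases p <;> simp_all <;> omega
  have hnp : ¬ p ∣ Nat.card H := fun h => by
    have h1 : p ∣ 4 * Nat.card H + 1 := hH ▸ dvd_pow_self p two_ne_zero
    have := (Nat.dvd_add_right (h.mul_left 4)).1 h1
    exact hp.one_lt.ne' (Nat.dvd_one.1 this)
  rcases PSL2.dickson p H with ⟨k, hk, hk'⟩ | ⟨P, hP⟩ | ⟨⟨e⟩⟩ | ⟨⟨e⟩⟩ | ⟨⟨e⟩⟩ |
      ⟨K, _, _, m, hm, hK⟩
  · rw [hcardF, hgcd] at hk
    have hpos : 0 < (p + 1) / 2 ∧ 0 < (p - 1) / 2 := ⟨by omega, by omega⟩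
    have hk1 : k ≤ (p + 1) / 2 := by
      rcases hk with h | h
      · exact Nat.le_of_dvd hpos.1 h
      · exact (Nat.le_of_dvd hpos.2 h).trans (by omega)
    refine hsmall ?_
    rcases hk' with ⟨-, h⟩ | ⟨⟨e⟩⟩
    · omega
    · rw [Nat.card_congr e.toEquiv, DihedralGroup.nat_card]
      omega
  · have h1 := PSL2.card_normalizer_sylow p P
    rw [hcardF, hgcd] at h1
    have h2 : Nat.card H ∣ (p - 1) * p :=
      h1 ▸ (Subgroup.card_dvd_of_le hP).mul_left 2
    have h3 : Nat.card H ∣ p - 1 :=
      ((hp.coprime_iff_not_dvd.2 hnp).symm.dvd_of_dvd_mul_right h2)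
    exact hsmall ((Nat.le_of_dvd (by omega) h3).trans (by omega))
  · refine hexc (Or.inl ?_)
    rw [Nat.card_congr e.toEquiv, nat_card_alternatingGroup]
    simp [Nat.factorial]
  · refine hexc (Or.inr (Or.inl ?_))
    rw [Nat.card_congr e.toEquiv, Nat.card_perm, Nat.card_fin]
    rfl
  · refine hexc (Or.inr (Or.inr ?_))
    rw [Nat.card_congr e.toEquiv, nat_card_alternatingGroup]
    simp [Nat.factorial]
  · rw [hcardF] at hm
    have hKp : Fintype.card K = p := by
      rcases hp.eq_one_or_self_of_dvd _ (hm ▸ dvd_pow_self (Fintype.card K) (fun h => by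
        rw [h, pow_zero] at hm; omega)) with h | h
      · exact absurd h (PSL2.one_lt_q (F := K)).ne'
      · exact h
    refine absurd ?_ hnp
    rcases hK with ⟨⟨e⟩⟩ | ⟨⟨e⟩⟩
    · rw [Nat.card_congr e.toEquiv]
      have h1 := PSL2.gcd_mul_card_PSL (F := K)
      rw [hKp, hgcd] at h1
      rcases hp.dvd_mul.1 (h1 ▸ dvd_mul_right p _ : p ∣ 2 * _) with h | h
      · exact absurd (Nat.le_of_dvd two_pos h) (by omega)
      · exact h
    · rw [Nat.card_congr e.toEquiv, GL.card_PGL, PSL2.card_SL, hKp]
      exact dvd_mul_right p _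

/-- An involution in a two-dimensional group with trivial determinant is central. -/
theorem eq_neg_one_of_sq {M : Matrix (Fin 2) (Fin 2) ℂ} (h : M * M = 1) (hd : M.det = 1)
    (h1 : M ≠ 1) : M = -1 := by
  have hadj := Matrix.adjugate_fin_two M
  have h2 : M.adjugate * M = 1 := by rw [Matrix.adjugate_mul, hd, one_smul]
  have h3 : M.adjugate = M := by
    calc M.adjugate = M.adjugate * (M * M) := by rw [h, mul_one]
      _ = M := by rw [← mul_assoc, h2, one_mul]
  rw [hadj] at h3
  have a := congrFun (congrFun h3 0) 0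
  have b := congrFun (congrFun h3 0) 1
  have c := congrFun (congrFun h3 1) 0
  simp at a b c
  have hb : M 0 1 = 0 := by linear_combination (-(1 : ℂ) / 2) * b
  have hc : M 1 0 = 0 := by linear_combination (-(1 : ℂ) / 2) * c
  rw [Matrix.det_fin_two, hb, hc, zero_mul, sub_zero, a] at hd
  have hcases : M 0 0 = 1 ∨ M 0 0 = -1 := mul_self_eq_one_iff.1 hd
  rcases hcases with ha | ha
  · exfalso
    refine h1 ?_
    ext i j
    fin_cases i <;> fin_cases j <;> simp [ha, hb, hc, a]
  · ext i j
    fin_cases i <;> fin_cases j <;> simp [ha, hb, hc, a]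

universe u

/-- A non-abelian simple group has no faithful two-dimensional representation if its order is even. -/
theorem false_of_two_dim {G : Type u} [Group G] [Finite G] [IsSimpleGroup G] (h2 : 2 ∣ Nat.card G)
    (hZ : Subgroup.center G = ⊥) (ρ : G →* Matrix (Fin 2) (Fin 2) ℂ)
    (hρ : Function.Injective ρ) : False := by
  classical
  haveI : Fact (Nat.Prime 2) := ⟨Nat.prime_two⟩
  obtain ⟨t, ht⟩ := exists_prime_orderOf_dvd_card' 2 h2
  let D : G →* ℂ := Matrix.detMonoidHom.comp ρ
  have hker : D.ker = ⊤ := by
    refine (D.normal_ker.eq_bot_or_eq_top).resolve_left fun hbot => ?_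
    have hinj : Function.Injective D := (MonoidHom.ker_eq_bot_iff D).1 hbot
    have : Subgroup.center G = ⊤ := eq_top_iff.2 fun g _ =>
      Subgroup.mem_center_iff.2 fun x => hinj (by rw [map_mul, map_mul, mul_comm])
    rw [hZ] at this
    haveI := Subgroup.subsingleton_iff.1 (subsingleton_of_bot_eq_top this)
    exact not_subsingleton G this
  have hd : (ρ t).det = 1 := by
    have : t ∈ D.ker := hker ▸ Subgroup.mem_top t
    exact MonoidHom.mem_ker.1 this
  have ht2 : t * t = 1 := by rw [← sq, ← ht, pow_orderOf_eq_one]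
  have hneg := eq_neg_one_of_sq (M := ρ t) (by rw [← map_mul, ht2, map_one]) hd
    fun h => by
      have : t = 1 := hρ (h.trans (map_one ρ).symm)
      simp [this] at ht
  have htc : t ∈ Subgroup.center G := Subgroup.mem_center_iff.2 fun x => hρ (by
    rw [map_mul, map_mul, hneg, mul_neg_one, neg_one_mul])
  rw [hZ, Subgroup.mem_bot] at htc
  simp [htc] at ht

/-- A simple group of order `168` has no maximal subgroup of order `12`. -/
theorem false_of_card_168 {G : Type u} [Group G] [Finite G] [IsSimpleGroup G]
    (hG : Nat.card G = 168) (H : Subgroup G) (hH : IsCoatom H) (hc : Nat.card H = 12) : False := by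
  classical
  haveI : Fact (Nat.Prime 2) := ⟨Nat.prime_two⟩
  haveI : Fact (Nat.Prime 3) := ⟨Nat.prime_three⟩
  -- a normal subgroup of `H` has normaliser `H`
  have hN : ∀ V : Subgroup G, V ≤ H → V ≠ ⊥ → H ≤ Subgroup.normalizer (V : Set G) →
      Subgroup.normalizer (V : Set G) = H := by
    intro V hV hV0 hle
    rcases hH.le_iff.1 hle with h | h
    · exfalso
      rcases (Subgroup.normalizer_eq_top_iff.1 h).eq_bot_or_eq_top with h' | h'
      · exact hV0 h'
      · exact hH.1 (top_le_iff.1 (h' ▸ hV))
    · exact h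
  let Q : Sylow 3 H := default
  have hQc : Nat.card (Q : Subgroup H) = 3 := by
    rw [Q.card_eq_multiplicity, hc,
      show (12 : ℕ).factorization 3 = 1 from by
        rw [Nat.factorization_def _ Nat.prime_three, padicValNat_def' (by norm_num) (by norm_num)]
        exact multiplicity_eq_of_dvd_of_not_dvd (by norm_num) (by norm_num), pow_one]
  have h3H : Nat.card (Sylow 3 H) = 1 ∨ Nat.card (Sylow 3 H) = 4 := by
    have h1 : Nat.card (Sylow 3 H) ∣ (Q : Subgroup H).index := Q.card_dvd_index
    have h2 : (Q : Subgroup H).index = 4 := by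
      have := (Q : Subgroup H).card_mul_index
      rw [hQc, hc] at this; omega
    have h3 := card_sylow_modEq_one 3 H
    rw [h2] at h1
    have h4 := Nat.le_of_dvd (by norm_num) h1
    unfold Nat.ModEq at h3
    interval_cases (Nat.card (Sylow 3 H)) <;> omega
  rcases h3H with h1 | h4
  · -- the Sylow `3`-normaliser of `G` would be `H`
    haveI : Subsingleton (Sylow 3 H) := (Nat.card_eq_one_iff_unique.1 h1).1
    have hQn : (Q : Subgroup H).Normal := Sylow.normal_of_subsingleton Q
    set V := (Q : Subgroup H).map H.subtype with hVdef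
    have hVc : Nat.card V = 3 := by rw [hVdef, Subgroup.card_map_of_injective H.subtype_injective, hQc]
    have hle : H ≤ Subgroup.normalizer (V : Set G) := by
      refine (Subgroup.normal_subgroupOf_iff_le_normalizer (Subgroup.map_subtype_le _)).1 ?_
      rwa [Subgroup.subgroupOf, Subgroup.comap_map_eq_self_of_injective H.subtype_injective]
    have hNV := hN V (Subgroup.map_subtype_le _) (fun h => by rw [h, Subgroup.card_bot] at hVc; omega)
      hle
    let T : Sylow 3 G := Sylow.ofCard V (by
      rw [hVc, hG, show (168 : ℕ).factorization 3 = 1 from by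
        rw [Nat.factorization_def _ Nat.prime_three, padicValNat_def' (by norm_num) (by norm_num)]
        exact multiplicity_eq_of_dvd_of_not_dvd (by norm_num) (by norm_num), pow_one])
    have hn : Nat.card (Sylow 3 G) = (Subgroup.normalizer (V : Set G)).index :=
      T.card_eq_index_normalizer
    have h2 := H.card_mul_index
    rw [hNV] at hn
    rw [hc, hG, ← hn] at h2
    have h3 := card_sylow_modEq_one 3 G
    unfold Nat.ModEq at h3
    omega
  · -- the Sylow `2`-subgroup of `H` is normal, and is normalised by a Sylow `2`-subgroup of `G`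
    let W : Sylow 2 H := default
    have hWc : Nat.card (W : Subgroup H) = 4 := by
      rw [W.card_eq_multiplicity, hc,
        show (12 : ℕ).factorization 2 = 2 from by
          rw [Nat.factorization_def _ Nat.prime_two, padicValNat_def' (by norm_num) (by norm_num)]
          exact multiplicity_eq_of_dvd_of_not_dvd (by norm_num) (by norm_num)]
      rfl
    set B : Set H := {g | orderOf g = 3} with hBdef
    have hB : 8 ≤ B.ncard := by
      have hdis : ∀ S : Sylow 3 H, ∀ g ∈ (S : Subgroup H), g ≠ 1 → orderOf g = 3 ∧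
          Subgroup.zpowers g = (S : Subgroup H) := by
        intro S g hg hg1
        have hS : Nat.card (S : Subgroup H) = 3 :=
          S.card_eq_multiplicity.trans (Q.card_eq_multiplicity.symm.trans hQc)
        have ho : orderOf g = 3 := by
          have h := Subgroup.orderOf_dvd_natCard _ hg
          rw [hS] at h
          exact ((Nat.dvd_prime Nat.prime_three).1 h).resolve_left fun h' =>
            hg1 (orderOf_eq_one_iff.1 h')
        refine ⟨ho, Subgroup.eq_of_le_of_card_ge ((Subgroup.zpowers_le).2 hg) ?_⟩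
        rw [Nat.card_zpowers, ho, hS]
      have hex : ∀ S : Sylow 3 H, ∃ g : H, g ∈ (S : Subgroup H) ∧ g ≠ 1 := fun S => by
        haveI : Nontrivial (S : Subgroup H) := by
          refine Finite.one_lt_card_iff_nontrivial.1 ?_
          rw [show Nat.card (S : Subgroup H) = 3 from
            S.card_eq_multiplicity.trans (Q.card_eq_multiplicity.symm.trans hQc)]
          norm_num
        obtain ⟨g, hg⟩ := exists_ne (1 : (S : Subgroup H))
        exact ⟨g, g.2, fun h => hg (Subtype.ext h)⟩
      choose g hg hg1 using hex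
      let F : Sylow 3 H × Bool → B := fun x =>
        ⟨if x.2 then g x.1 else (g x.1)⁻¹, by
          show orderOf _ = 3
          split
          · exact (hdis _ _ (hg x.1) (hg1 x.1)).1
          · rw [orderOf_inv]; exact (hdis _ _ (hg x.1) (hg1 x.1)).1⟩
      have hF : Function.Injective F := by
        rintro ⟨S, b⟩ ⟨S', b'⟩ h
        have h' : (if b then g S else (g S)⁻¹) = (if b' then g S' else (g S')⁻¹) :=
          congrArg Subtype.val h
        have hz : ∀ (S : Sylow 3 H) (b : Bool),
            Subgroup.zpowers (if b then g S else (g S)⁻¹) = (S : Subgroup H) := by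
          intro S b
          cases b <;> simp [(hdis _ _ (hg S) (hg1 S)).2]
        have hS : S = S' := Sylow.ext (by rw [← hz S b, h', hz S' b'])
        subst hS
        refine Prod.ext rfl ?_
        have hne : g S ≠ (g S)⁻¹ := fun he => by
          have h1 : g S ^ 2 = 1 := by rw [sq]; exact mul_eq_one_iff_eq_inv.2 he
          have h2 := orderOf_dvd_of_pow_eq_one h1
          rw [(hdis _ _ (hg S) (hg1 S)).1] at h2
          omega
        cases b <;> cases b' <;> simp_all
      have h8 := Nat.card_le_card_of_injective F hF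
      rw [Nat.card_prod, h4, Nat.card_eq_fintype_card (α := Bool), Fintype.card_bool] at h8
      exact h8
    have hWset : ((W : Subgroup H) : Set H) = Bᶜ := by
      refine Set.eq_of_subset_of_ncard_le (fun x hx => ?_) ?_ (Set.toFinite _)
      · intro hxB
        have h := Subgroup.orderOf_dvd_natCard _ hx
        rw [hWc, show orderOf x = 3 from hxB] at h
        omega
      · rw [Set.ncard_compl _ (Set.toFinite _) (Set.toFinite _), hc,
          ← Nat.card_coe_set_eq (s := ((W : Subgroup H) : Set H))]
        have : Nat.card ((W : Subgroup H) : Set H) = 4 := hWc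
        omega
    have hWn : (W : Subgroup H).Normal := ⟨fun x hx h => by
      have hmem : x ∈ ((W : Subgroup H) : Set H) := hx
      rw [hWset] at hmem
      show h * x * h⁻¹ ∈ ((W : Subgroup H) : Set H)
      rw [hWset]
      intro hB'
      refine hmem ?_
      have e : orderOf (h * x * h⁻¹) = orderOf x := (MulAut.conj h).orderOf_eq x
      exact (e.symm.trans hB' : orderOf x = 3)⟩
    set V := (W : Subgroup H).map H.subtype with hVdef
    have hVc : Nat.card V = 4 := by rw [hVdef, Subgroup.card_map_of_injective H.subtype_injective, hWc]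
    have hle : H ≤ Subgroup.normalizer (V : Set G) := by
      refine (Subgroup.normal_subgroupOf_iff_le_normalizer (Subgroup.map_subtype_le _)).1 ?_
      rwa [Subgroup.subgroupOf, Subgroup.comap_map_eq_self_of_injective H.subtype_injective]
    have hNV := hN V (Subgroup.map_subtype_le _) (fun h => by rw [h, Subgroup.card_bot] at hVc; omega)
      hle
    obtain ⟨T, hVT⟩ := (IsPGroup.of_card (n := 2) (p := 2) (by rw [hVc]; rfl) :
      IsPGroup 2 V).exists_le_sylow
    have hTc : Nat.card (T : Subgroup G) = 8 := by
      rw [T.card_eq_multiplicity, hG,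
        show (168 : ℕ).factorization 2 = 3 from by
          rw [Nat.factorization_def _ Nat.prime_two, padicValNat_def' (by norm_num) (by norm_num)]
          exact multiplicity_eq_of_dvd_of_not_dvd (by norm_num) (by norm_num)]
      rfl
    have hTN : (T : Subgroup G) ≤ Subgroup.normalizer (V : Set G) := by
      refine (Subgroup.normal_subgroupOf_iff_le_normalizer hVT).1
        (Subgroup.normal_of_index_eq_two ?_)
      have h := (V.subgroupOf (T : Subgroup G)).card_mul_index
      rw [Nat.card_congr (Subgroup.subgroupOfEquivOfLe hVT).toEquiv, hVc, hTc] at h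
      omega
    have h := Subgroup.card_dvd_of_le (hNV ▸ hTN)
    rw [hTc, hc] at h
    omega

/-- The group `PSL(2, p)` has no maximal subgroup of index `2 p` once it has a faithful
representation of degree `(p - 1) / 2`. -/
theorem false_of_index {G : Type u} [Group G] [Finite G] {p : ℕ} [Fact p.Prime] (h5 : 5 ≤ p)
    (e : G ≃* PSL(2, ZMod p)) (H : Subgroup G) (hH : IsCoatom H) (hidx : H.index = 2 * p)
    {n : ℕ} (ρ : G →* Matrix (Fin n) (Fin n) ℂ) (hρ : Function.Injective ρ)
    (hn : 2 * n + 1 = p) : False := by
  have hp : p.Prime := Fact.out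
  have hcardF : Fintype.card (ZMod p) = p := ZMod.card p
  obtain ⟨j, hj⟩ := hp.odd_of_ne_two (by omega)
  have hgcd : Nat.gcd 2 (p - 1) = 2 := Nat.gcd_eq_left ⟨j, by omega⟩
  have hG2 : 2 * Nat.card G = p * (p ^ 2 - 1) := by
    have h := PSL2.gcd_mul_card_PSL (F := ZMod p)
    rw [hcardF, hgcd, ← Nat.card_congr e.toEquiv] at h
    exact h
  have hmul := H.card_mul_index
  rw [hidx] at hmul
  have h4 : 4 * Nat.card H + 1 = p ^ 2 := by
    have h1 : p * (4 * Nat.card H) = p * (p ^ 2 - 1) := by rw [← hG2, ← hmul]; ring
    have h2 := Nat.eq_of_mul_eq_mul_left hp.pos h1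
    have := Nat.one_le_pow 2 p hp.pos
    omega
  haveI : IsSimpleGroup G := by
    haveI := PSL2.psl_isSimpleGroup (F := ZMod p) (by rw [hcardF]; omega)
    haveI := e.toEquiv.nontrivial
    exact IsSimpleGroup.isSimpleGroup_of_surjective e.symm.toMonoidHom e.symm.surjective
  rcases eq_five_or_seven h5 (H.map e.toMonoidHom) (by
    rwa [Subgroup.card_map_of_injective e.injective]) with rfl | rfl
  · obtain rfl : n = 2 := by omega
    refine false_of_two_dim ⟨30, by omega⟩ ?_ ρ hρ
    refine ((Subgroup.center G).normal_of_characteristic).eq_bot_or_eq_top.resolve_right fun h => ?_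
    haveI := (H.normalizer_eq_top_iff).1 (eq_top_iff.2 fun g _ =>
      Subgroup.mem_normalizer_iff.2 fun x => by
        rw [(Subgroup.mem_center_iff.1 (h ▸ Subgroup.mem_top g : g ∈ Subgroup.center G) x).symm,
          mul_inv_cancel_right])
    rcases this.eq_bot_or_eq_top with h' | h'
    · rw [h', Subgroup.card_bot] at h4; omega
    · exact hH.1 h'
  · exact false_of_card_168 (by omega) H hH (by omega)

end Cfsg.Agent.TwoP
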