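import Cfsg.Agent.Lib.Char.PermRelation
import Cfsg.Agent.Lib.CharInt.Galois
import Cfsg.Agent.Lib.Perm.SmallSuborbit
import Cfsg.Agent.Lib.TwoP.Constituents
import Mathlib.Algebra.DirectSum.LinearMap
import Mathlib.LinearAlgebra.Eigenspace.Charpoly

/-!
The subdegrees of a rank three group of degree `2p` with constituents of degrees `1, p, p - 1`.

* `isInternal_of_irreducible`, `trace_mul_of_scalar`: traces over an isotypic decomposition;
* `arith`: the arithmetic; `subdegree`: the subdegrees are `a (2a + 1)` and `(a + 1) (2a + 1)`.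
-/

set_option autoImplicit false
set_option linter.style.haveILetI false
set_option linter.unusedSectionVars false

namespace Cfsg.Agent.TwoP

open Cfsg Cfsg.Agent.Char Module
open scoped ComplexConjugate DirectSum

universe u v w

variable {G : Type u} [Group G] [Fintype G]

set_option maxHeartbeats 800000 in
-- the direct sum unifications are slow
theorem isInternal_of_irreducible {V : Type v} [AddCommGroup V] [Module ℂ V] [FiniteDimensional ℂ V]
    (ρ : Representation ℂ G V) {ι : Type w} [Fintype ι] [DecidableEq ι]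
    (A : ι → Subrepresentation ρ) (hirr : ∀ i, (A i).toRepresentation.IsIrreducible)
    (hne : ∀ i j, i ≠ j → (A i).toRepresentation.character ≠ (A j).toRepresentation.character)
    (hdim : ∑ i, finrank ℂ (A i).toSubmodule = finrank ℂ V) :
    DirectSum.IsInternal fun i => (A i).toSubmodule := by
  classical
  set L := DirectSum.coeLinearMap (fun i => (A i).toSubmodule) with hL
  have hinj : Function.Injective L := by
    refine (injective_iff_map_eq_zero L).2 fun x hx => ?_
    refine DirectSum.ext_component ℂ fun j => ?_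
    rw [map_zero]
    change x j = 0
    refine Subtype.ext ?_
    let c : G → ℂ := fun g => conj ((A j).toRepresentation.character g)
    have hc : IsClassFunction G c :=
      IsCharacter.isClassFunction (IsCharacter.conj (isCharacter_character _))
    have hscal : ∀ i, ∃ a : ℂ, (∀ v ∈ (A i).toSubmodule, opSum c ρ v = a • v) ∧
        a * finrank ℂ (A i).toSubmodule = if i = j then (Nat.card G : ℂ) else 0 := by
      intro i
      haveI := hirr i
      obtain ⟨a, ha⟩ := exists_opSum_eq_smul hc (A i).toRepresentation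
      refine ⟨a, fun v hv => ?_, ?_⟩
      · have h := congrArg Subtype.val (ha ⟨v, hv⟩)
        rw [opSum_apply] at h
        simp only [AddSubmonoidClass.coe_finsetSum, SetLike.val_smul] at h
        rw [opSum_apply]
        exact h
      · have he : opSum c (A i).toRepresentation = a • LinearMap.id := LinearMap.ext ha
        have ht := trace_opSum c (A i).toRepresentation
        rw [he, map_smul, LinearMap.trace_id, smul_eq_mul] at ht
        have h2 : classInner (A i).toRepresentation.character (A j).toRepresentation.character =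
            if i = j then 1 else 0 := by
          have hi := isIrrCharacter_character _ (hirr i)
          have hj := isIrrCharacter_character _ (hirr j)
          split_ifs with h
          · rw [h]; exact classInner_irr_self hj
          · exact classInner_irr_of_ne hi hj (hne i j h)
        rw [ht]
        have hG : (Nat.card G : ℂ) ≠ 0 := Nat.cast_ne_zero.2 Nat.card_pos.ne'
        have h3 : ∑ g : G, c g * (A i).toRepresentation.character g =
            (Nat.card G : ℂ) * classInner (A i).toRepresentation.character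
              (A j).toRepresentation.character := by
          rw [classInner, ← mul_assoc, mul_inv_cancel₀ hG, one_mul]
          exact Finset.sum_congr rfl fun g _ => mul_comm _ _
        rw [h3, h2]
        split_ifs <;> simp
    choose a ha hb using hscal
    have hsum : L x = ∑ i, ((x i : (A i).toSubmodule) : V) := by
      conv_lhs => rw [← DirectSum.sum_univ_of x]
      rw [map_sum]
      exact Finset.sum_congr rfl fun i _ => by rw [hL]; exact DirectSum.coeLinearMap_of (fun i => (A i).toSubmodule) i (x i)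
    have h := congrArg (opSum c ρ) hx
    rw [map_zero, hsum, map_sum, Finset.sum_eq_single j] at h
    · rw [ha j _ (x j).2, smul_eq_zero] at h
      rcases h with h | h
      · exfalso
        have := hb j
        rw [h, zero_mul, if_pos rfl] at this
        exact (Nat.cast_ne_zero.2 Nat.card_pos.ne' : (Nat.card G : ℂ) ≠ 0) this.symm
      · exact h
    · intro i _ hij
      rw [ha i _ (x i).2]
      have := hb i
      rw [if_neg hij, mul_eq_zero] at this
      rcases this with h' | h'
      · rw [h', zero_smul]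
      · rw [Nat.cast_eq_zero, Submodule.finrank_eq_zero] at h'
        rw [(Submodule.eq_bot_iff _).1 h' _ (x i).2, smul_zero]
    · simp
  refine ⟨hinj, ?_⟩
  have hd : finrank ℂ (⨁ i, (A i).toSubmodule) = finrank ℂ V := by
    rw [Module.finrank_directSum, hdim]
  exact (LinearMap.injective_iff_surjective_of_finrank_eq_finrank hd (f := L)).1 hinj

/-- A trace over an isotypic decomposition. -/
theorem trace_mul_of_scalar {V : Type v} [AddCommGroup V] [Module ℂ V] [FiniteDimensional ℂ V]
    (ρ : Representation ℂ G V) {ι : Type w} [Fintype ι] [DecidableEq ι]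
    (A : ι → Subrepresentation ρ) (hI : DirectSum.IsInternal fun i => (A i).toSubmodule)
    (T : Module.End ℂ V) (a : ι → ℂ) (hT : ∀ i, ∀ v ∈ (A i).toSubmodule, T v = a i • v) (g : G) :
    LinearMap.trace ℂ V (T * ρ g) = ∑ i, a i * (A i).toRepresentation.character g := by
  have hmem : ∀ i, ∀ v ∈ (A i).toSubmodule, ρ g v ∈ (A i).toSubmodule :=
    fun i v hv => (A i).apply_mem_toSubmodule g hv
  have hf : ∀ i, Set.MapsTo (T * ρ g) (A i).toSubmodule (A i).toSubmodule := fun i v hv => by
    show T (ρ g v) ∈ (A i).toSubmodule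
    rw [hT i _ (hmem i v hv)]
    exact Submodule.smul_mem _ _ (hmem i v hv)
  rw [LinearMap.trace_eq_sum_trace_restrict hI hf]
  refine Finset.sum_congr rfl fun i _ => ?_
  have he : (T * ρ g).restrict (hf i) = a i • (A i).toRepresentation g :=
    LinearMap.ext fun v => Subtype.ext (hT i _ (hmem i v v.2))
  rw [he, map_smul, smul_eq_mul]
  rfl

theorem arith {p k : ℕ} (hp : 3 ≤ p) (hk2 : 2 ≤ k) (hkl : k + 3 ≤ 2 * p) {r s : ℤ}
    (h1 : (k : ℤ) + (p : ℤ) * r + ((p : ℤ) - 1) * s = 0)
    (h2 : (k : ℤ) ^ 2 + (p : ℤ) * r ^ 2 + ((p : ℤ) - 1) * s ^ 2 = 2 * (p : ℤ) * k) :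
    ∃ a : ℕ, 0 < a ∧ p = 2 * a ^ 2 + 2 * a + 1 ∧
      (k = a * (2 * a + 1) ∨ k = (a + 1) * (2 * a + 1)) := by
  set m := -(r + s) with hm
  have hk : (k : ℤ) = s + m * p := by rw [hm]; linear_combination h1
  have hsb : ((p : ℤ) - 1) * s ^ 2 ≤ (p : ℤ) ^ 2 := by
    have : 0 ≤ (p : ℤ) * r ^ 2 := mul_nonneg (by omega) (sq_nonneg r)
    nlinarith [sq_nonneg ((k : ℤ) - p)]
  have hs : -(p : ℤ) < s ∧ s < p := by
    refine abs_lt.1 ?_
    by_contra h
    have h' : (p : ℤ) ^ 2 ≤ s ^ 2 := by
      rw [← sq_abs s]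
      exact pow_le_pow_left₀ (by omega) (not_lt.1 h) 2
    have : 0 < (p : ℤ) ^ 2 := by positivity
    nlinarith [mul_le_mul_of_nonneg_left h' (show (0 : ℤ) ≤ p - 1 by omega)]
  have hm0 : 0 ≤ m := by
    by_contra h
    have : m * p ≤ (-1) * (p : ℤ) := mul_le_mul_of_nonneg_right (by omega) (by omega)
    omega
  have hm2 : m ≤ 2 := by
    by_contra h
    have : 3 * (p : ℤ) ≤ m * p := mul_le_mul_of_nonneg_right (by omega) (by omega)
    omega
  have hr : r = -(m + s) := by rw [hm]; ring
  rw [hk, hr] at h2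
  have key : (p : ℤ) * (m ^ 2 - 2 * m) + m ^ 2 + 4 * m * s + 2 * s ^ 2 - 2 * s = 0 := by
    have h : (p : ℤ) * ((p : ℤ) * (m ^ 2 - 2 * m) + m ^ 2 + 4 * m * s + 2 * s ^ 2 - 2 * s) = 0 := by
      linear_combination h2
    exact (mul_eq_zero.1 h).resolve_left (by omega)
  interval_cases m
  · exfalso
    have : s * (s - 1) = 0 := by linarith [key]
    rcases mul_eq_zero.1 this with h | h <;> omega
  · have hp2 : (p : ℤ) = 2 * s ^ 2 + 2 * s + 1 := by linarith [key]
    rcases le_or_gt 0 s with h | h
    · lift s to ℕ using h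
      have hp' : p = 2 * s ^ 2 + 2 * s + 1 := by exact_mod_cast hp2
      refine ⟨s, Nat.pos_of_ne_zero fun h0 => by rw [h0] at hp'; omega, hp', Or.inr ?_⟩
      have h0 : (k : ℤ) = ((s + 1) * (2 * s + 1) : ℕ) := by
        push_cast; rw [hk, hp2]; ring
      exact_mod_cast h0
    · obtain ⟨a, ha⟩ : ∃ a : ℕ, s = -(a : ℤ) - 1 := ⟨(-s - 1).toNat, by omega⟩
      subst ha
      have hp' : p = 2 * a ^ 2 + 2 * a + 1 := by
        have h0 : (p : ℤ) = (2 * a ^ 2 + 2 * a + 1 : ℕ) := by push_cast; rw [hp2]; ring
        exact_mod_cast h0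
      refine ⟨a, Nat.pos_of_ne_zero fun h0 => by rw [h0] at hp'; omega, hp', Or.inl ?_⟩
      have h0 : (k : ℤ) = ((a * (2 * a + 1) : ℕ) : ℤ) := by push_cast; rw [hk, hp2]; ring
      exact_mod_cast h0
  · exfalso
    have : (s + 1) * (s + 2) = 0 := by linarith [key]
    rcases mul_eq_zero.1 this with h | h <;> omega

variable {Ω : Type v} [Fintype Ω] [MulAction G Ω]

open scoped Classical in
theorem subdegree [FaithfulSMul G Ω] [MulAction.IsPreprimitive G Ω] {p : ℕ} [Fact p.Prime]
    (h3 : 3 ≤ p) (hΩ : Fintype.card Ω = 2 * p) (x : G)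
    (hr3 : Nat.card (Quotient (MulAction.orbitRel G (Ω × Ω))) = 3)
    (χp χq : IrrCharacter G) (hp1 : χp.1 1 = (p : ℂ)) (hq1 : χq.1 1 = (p : ℂ) - 1)
    (hpx : χp.1 x = 0) (hqx : χq.1 x = -1)
    (hmp : classInner (permRep ℂ G Ω).character χp.1 = 1)
    (hmq : classInner (permRep ℂ G Ω).character χq.1 = 1)
    (hmf : ∀ χ : G → ℂ, IsIrrCharacter G χ →
      classInner (permRep ℂ G Ω).character χ = 0 ∨ classInner (permRep ℂ G Ω).character χ = 1)
    (a₀ b : Ω) (hb : b ≠ a₀) :
    ∃ a : ℕ, 0 < a ∧ p = 2 * a ^ 2 + 2 * a + 1 ∧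
      (Nat.card (MulAction.orbit (MulAction.stabilizer G a₀) b) = a * (2 * a + 1) ∨
        Nat.card (MulAction.orbit (MulAction.stabilizer G a₀) b) = (a + 1) * (2 * a + 1)) := by
  have hp : p.Prime := Fact.out
  set R : Ω → Ω → Prop := fun y z => (y, z) ∈ MulAction.orbit G (a₀, b) with hRdef
  set k := Nat.card (MulAction.orbit (MulAction.stabilizer G a₀) b) with hkdef
  have hRinv : ∀ (g : G) y z, R y z → R (g • y) (g • z) := by
    rintro g y z ⟨h, hh⟩
    exact ⟨g * h, by
      show (g * h) • (a₀, b) = (g • y, g • z)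
      rw [mul_smul, show h • (a₀, b) = (y, z) from hh]; rfl⟩
  have hirrR : ∀ y, ¬ R y y := by
    rintro y ⟨h, hh⟩
    have h1 : h • a₀ = y := congrArg Prod.fst hh
    have h2 : h • b = y := congrArg Prod.snd hh
    exact hb (MulAction.injective h (h2.trans h1.symm))
  have hcong : ∀ (g : G) y, Nat.card {z // R y z} = Nat.card {z // R (g • y) z} := fun g y =>
    Nat.card_congr (Equiv.subtypeEquiv (MulAction.toPerm g) fun z => ⟨hRinv g y z, fun h => by
      simpa using hRinv g⁻¹ _ _ h⟩)
  have hk : ∀ y, Nat.card {z // R y z} = k := by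
    intro y
    obtain ⟨g, rfl⟩ := MulAction.exists_smul_eq G a₀ y
    rw [← hcong g a₀, hkdef]
    refine Nat.card_congr (Equiv.subtypeEquivRight fun z => ?_)
    constructor
    · rintro ⟨h, hh⟩
      exact ⟨⟨h, congrArg Prod.fst hh⟩, congrArg Prod.snd hh⟩
    · rintro ⟨⟨h, hh⟩, hz⟩
      exact ⟨h, Prod.ext hh hz⟩
  -- the relation is symmetric
  have hsymm : ∀ y z, R y z → R z y := by
    by_contra hcon
    push Not at hcon
    obtain ⟨y, z, hyz, hzy⟩ := hcon
    have hba : ¬ R b a₀ := by
      intro h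
      obtain ⟨g, hg⟩ := hyz
      have h1 : g • a₀ = y := congrArg Prod.fst hg
      have h2 : g • b = z := congrArg Prod.snd hg
      exact hzy (h1 ▸ h2 ▸ hRinv g b a₀ h)
    let q : Ω × Ω → Quotient (MulAction.orbitRel G (Ω × Ω)) := Quotient.mk _
    have hqR : ∀ y z, R y z ↔ q (y, z) = q (a₀, b) := fun y z =>
      ⟨fun h => Quotient.sound (MulAction.orbitRel_apply.2 h),
        fun h => MulAction.orbitRel_apply.1 (Quotient.exact h)⟩
    haveI : Fintype (Quotient (MulAction.orbitRel G (Ω × Ω))) := Fintype.ofFinite _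
    have hd : ∀ w, q (a₀, a₀) ≠ q w ↔ w.1 ≠ w.2 := by
      intro w
      constructor
      · intro h he
        obtain ⟨g, hg⟩ := MulAction.exists_smul_eq G w.1 a₀
        refine h (Quotient.sound ⟨g, ?_⟩)
        show g • w = (a₀, a₀)
        exact Prod.ext hg (by rw [Prod.smul_snd, ← he]; exact hg)
      · intro h he
        obtain ⟨g, hg⟩ := Quotient.exact he
        have hg' : g • w = (a₀, a₀) := hg
        exact h (MulAction.injective g ((congrArg Prod.fst hg').trans (congrArg Prod.snd hg').symm))
    have hall : ∀ w : Ω × Ω, w.1 ≠ w.2 → R w.1 w.2 ∨ R w.2 w.1 := by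
      intro w hw
      have h3 : ({q (a₀, a₀), q (a₀, b), q (b, a₀)} : Finset _).card = 3 := by
        rw [Finset.card_insert_of_notMem, Finset.card_pair]
        · exact fun h => hba ((hqR b a₀).2 h.symm)
        · simp only [Finset.mem_insert, Finset.mem_singleton, not_or]
          exact ⟨(hd _).2 (Ne.symm hb), (hd _).2 hb⟩
      have hmem : q w ∈ ({q (a₀, a₀), q (a₀, b), q (b, a₀)} : Finset _) := by
        rw [(Finset.card_eq_iff_eq_univ _).1 (h3.trans (by rw [← hr3, Nat.card_eq_fintype_card]))]
        exact Finset.mem_univ _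
      simp only [Finset.mem_insert, Finset.mem_singleton] at hmem
      rcases hmem with h | h | h
      · exact absurd h.symm ((hd w).2 hw)
      · exact Or.inl ((hqR _ _).2 h)
      · refine Or.inr ?_
        obtain ⟨g, hg⟩ := Quotient.exact h.symm
        have hg' : g • w = (b, a₀) := hg
        obtain ⟨hg1, hg2⟩ := Prod.ext_iff.1 hg'
        have h0 := hRinv g⁻¹ a₀ b ⟨1, one_smul G _⟩
        change g • w.1 = b at hg1
        change g • w.2 = a₀ at hg2
        rwa [← hg1, ← hg2, inv_smul_smul, inv_smul_smul] at h0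
    -- valency of the transposed relation
    have hk' : ∀ y, Nat.card {z // R z y} = k := by
      have hsum : ∑ y : Ω, Nat.card {z // R z y} = ∑ y : Ω, Nat.card {z // R y z} := by
        simp only [Nat.card_eq_fintype_card, Fintype.card_subtype, Finset.card_filter]
        exact Finset.sum_comm
      have hconst : ∀ y, Nat.card {z // R z y} = Nat.card {z // R z a₀} := by
        intro y
        obtain ⟨g, rfl⟩ := MulAction.exists_smul_eq G a₀ y
        exact (Nat.card_congr (Equiv.subtypeEquiv (MulAction.toPerm g) fun z =>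
          ⟨hRinv g z a₀, fun h => by simpa using hRinv g⁻¹ _ _ h⟩)).symm
      intro y
      rw [Finset.sum_congr rfl fun y _ => hconst y, Finset.sum_congr rfl fun y _ => hk y,
        Finset.sum_const, Finset.sum_const, smul_eq_mul, smul_eq_mul] at hsum
      rw [hconst y]
      exact Nat.eq_of_mul_eq_mul_left (Finset.card_pos.2 ⟨a₀, Finset.mem_univ _⟩) hsum
    have hne2 : ∀ z, ¬ (R a₀ z ∧ R z a₀) := by
      rintro z ⟨⟨g, hg⟩, h2⟩
      have h1 : g • a₀ = a₀ := congrArg Prod.fst hg
      have h1' : g • b = z := congrArg Prod.snd hg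
      apply hba
      have := hRinv g⁻¹ z a₀ h2
      rwa [← h1', inv_smul_smul, inv_smul_eq_iff.2 h1.symm] at this
    have htot : (Finset.univ.filter fun z => z ≠ a₀).card =
        (Finset.univ.filter fun z => R a₀ z).card + (Finset.univ.filter fun z => R z a₀).card := by
      rw [← Finset.card_union_of_disjoint]
      · congr 1
        ext z
        simp only [Finset.mem_filter, Finset.mem_univ, true_and, Finset.mem_union]
        exact ⟨fun h => hall (a₀, z) (Ne.symm h), fun h => by
          rintro rfl; rcases h with h | h <;> exact hirrR _ h⟩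
      · rw [Finset.disjoint_filter]
        exact fun z _ h1 h2 => hne2 z ⟨h1, h2⟩
    rw [Finset.filter_ne', Finset.card_erase_of_mem (Finset.mem_univ _), Finset.card_univ, hΩ,
      ← Fintype.card_subtype, ← Fintype.card_subtype, ← Nat.card_eq_fintype_card,
      ← Nat.card_eq_fintype_card, hk, hk'] at htot
    omega
  -- the three constituents
  set ρ := permRep ℂ G Ω with hρ
  obtain ⟨A₁, hA₁, hc₁⟩ := PermConstituent.exists_sub ρ (isIrrCharacter_one (G := G))
    (by rw [PermConstituent.mult_one a₀]; exact one_ne_zero)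
  obtain ⟨Ap, hAp, hcp⟩ := PermConstituent.exists_sub ρ χp.2 (by rw [hmp]; exact one_ne_zero)
  obtain ⟨Aq, hAq, hcq⟩ := PermConstituent.exists_sub ρ χq.2 (by rw [hmq]; exact one_ne_zero)
  let A : Fin 3 → Subrepresentation ρ := ![A₁, Ap, Aq]
  let c : Fin 3 → (G → ℂ) := ![fun _ => 1, χp.1, χq.1]
  have hAc : ∀ i, (A i).toRepresentation.character = c i := by
    intro i; fin_cases i <;> [exact hc₁; exact hcp; exact hcq]
  have hAirr : ∀ i, (A i).toRepresentation.IsIrreducible := by
    intro i; fin_cases i <;> assumption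
  have hp' : (p : ℂ) ≠ 1 := by exact_mod_cast hp.one_lt.ne'
  have hcne : ∀ i j, i ≠ j → c i ≠ c j := by
    have hp2 : (p : ℂ) - 1 ≠ 1 := fun h => by
      have : (p : ℂ) = 2 := by linear_combination h
      have : p = 2 := by exact_mod_cast this
      omega
    intro i j hij h
    have e := congrFun h 1
    fin_cases i <;> fin_cases j <;> simp [c, hp1, hq1] at e hij ⊢
    all_goals first
      | exact hp' e
      | exact hp' e.symm
      | exact hp2 e
      | exact hp2 e.symm
      | omega
      | exact one_ne_zero (by linear_combination e : (1 : ℂ) = 0)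
      | exact one_ne_zero (by linear_combination -e : (1 : ℂ) = 0)
  have hI : DirectSum.IsInternal fun i => (A i).toSubmodule := by
    refine isInternal_of_irreducible ρ A hAirr (fun i j h => by rw [hAc, hAc]; exact hcne i j h) ?_
    have hf : ∀ i, (finrank ℂ (A i).toSubmodule : ℂ) = c i 1 := fun i => by
      rw [← hAc i, Representation.char_one]
    have h : ((∑ i, finrank ℂ (A i).toSubmodule : ℕ) : ℂ) = ((2 * p : ℕ) : ℂ) := by
      rw [Nat.cast_sum, Finset.sum_congr rfl fun i _ => hf i, Fin.sum_univ_three]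
      simp [c, hp1, hq1]; ring
    rw [Nat.cast_inj] at h
    rw [h, Module.finrank_fintype_fun_eq_card, hΩ]
  set T := PermConstituent.relOp R
  have hcomm : ∀ g f, T (ρ g f) = ρ g (T f) := PermConstituent.relOp_comm hRinv
  choose t ht using fun i => by
    haveI := hAirr i
    exact PermConstituent.exists_scalar ρ hmf (A i) T hcomm
  -- eigenvalues
  have hnz : ∀ i, ∃ v ∈ (A i).toSubmodule, v ≠ 0 := fun i => by
    haveI := hAirr i
    haveI := nontrivial_of_isIrreducible (A i).toRepresentation
    obtain ⟨v, hv⟩ := exists_ne (0 : (A i).toSubmodule)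
    exact ⟨v, v.2, fun h => hv (Subtype.ext h)⟩
  have hint : ∀ i, IsIntegral ℤ (t i) := fun i => by
    obtain ⟨v, hv, hv0⟩ := hnz i
    refine PermConstituent.isIntegral_root (R := R) (Polynomial.mem_roots'.2
      ⟨(LinearMap.charpoly_monic T).ne_zero, (Module.End.hasEigenvalue_iff_isRoot_charpoly T _).1 ?_⟩)
    exact Module.End.hasEigenvalue_of_hasEigenvector ⟨Module.End.mem_eigenspace_iff.2 (ht i v hv), hv0⟩
  have ht0 : t 0 = (k : ℂ) := by
    obtain ⟨v, hv, hv0⟩ := hnz 0
    have hfix : ∀ g : G, ρ g v = v := by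
      intro g
      have h1 : finrank ℂ A₁.toSubmodule = 1 := by
        have h := congrFun hc₁ 1
        rw [Representation.char_one] at h
        exact_mod_cast h
      obtain ⟨s, hs⟩ : ∃ s : ℂ, ∀ w : A₁.toSubmodule, A₁.toRepresentation g w = s • w := by
        obtain ⟨w₀, hw₀, hspan⟩ := finrank_eq_one_iff'.1 h1
        obtain ⟨s, hs⟩ := hspan (A₁.toRepresentation g w₀)
        refine ⟨s, fun w => ?_⟩
        obtain ⟨u, hu⟩ := hspan w
        rw [← hu, map_smul, ← hs, smul_comm]
      have htr := congrFun hc₁ g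
      rw [Representation.character, show A₁.toRepresentation g = s • LinearMap.id from
        LinearMap.ext hs, map_smul, LinearMap.trace_id, h1, smul_eq_mul, Nat.cast_one, mul_one] at htr
      have hvA : v ∈ A₁.toSubmodule := hv
      have h := congrArg Subtype.val (hs ⟨v, hvA⟩)
      rw [htr, one_smul] at h
      exact h
    have hv' := PermConstituent.eq_const_of_fixed (G := G) a₀ hfix
    have h := ht 0 v hv
    rw [hv', PermConstituent.relOp_const hk] at h
    have hva : v a₀ ≠ 0 := fun h0 => hv0 (by rw [hv', h0]; rfl)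
    have h' := congrFun h a₀
    simp only [Pi.smul_apply, smul_eq_mul] at h'
    exact (mul_right_cancel₀ hva h').symm
  have htrace : ∀ g, LinearMap.trace ℂ _ (T * ρ g) = (k : ℂ) + t 1 * χp.1 g + t 2 * χq.1 g := by
    intro g
    rw [trace_mul_of_scalar ρ A hI T t ht g, Fin.sum_univ_three, hAc, hAc, hAc, ht0]
    simp [c]
  have e1 := htrace 1
  rw [map_one, mul_one, PermConstituent.trace_relOp hirrR, hp1, hq1] at e1
  have e2 : LinearMap.trace ℂ _ (T * T) =
      (k : ℂ) ^ 2 + t 1 ^ 2 * (p : ℂ) + t 2 ^ 2 * ((p : ℂ) - 1) := by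
    have h := trace_mul_of_scalar ρ A hI (T * T) (fun i => t i ^ 2) (fun i v hv => by
      show T (T v) = _
      rw [ht i v hv, map_smul, ht i v hv, smul_smul, sq]) 1
    rw [map_one, mul_one] at h
    rw [h, Fin.sum_univ_three, hAc, hAc, hAc, ht0]
    simp [c, hp1, hq1]
  rw [PermConstituent.trace_relOp_sq hk hsymm, hΩ] at e2
  have e3 : ∃ N : ℕ, LinearMap.trace ℂ _ (T * ρ x) = N := by
    refine ⟨∑ y : Ω, (Finset.univ.filter fun z => R y z ∧ x⁻¹ • z = y).card, ?_⟩
    rw [LinearMap.trace_eq_matrix_trace ℂ (Pi.basisFun ℂ Ω), LinearMap.toMatrix_eq_toMatrix',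
      Matrix.trace, Nat.cast_sum]
    refine Finset.sum_congr rfl fun y _ => ?_
    rw [Matrix.diag_apply, LinearMap.toMatrix'_apply]
    show T (ρ x _) y = _
    rw [PermConstituent.relOp_apply, Finset.card_filter, Nat.cast_sum, Finset.sum_filter]
    refine Finset.sum_congr rfl fun z _ => ?_
    show (if R y z then (Pi.single y (1 : ℂ) : Ω → ℂ) (x⁻¹ • z) else 0) = _
    rw [Pi.single_apply]
    split_ifs <;> simp_all
  obtain ⟨N, hN⟩ := e3
  rw [htrace x, hpx, hqx] at hN
  obtain ⟨s, hs⟩ : ∃ s : ℤ, t 2 = s := ⟨(k : ℤ) - N, by push_cast; linear_combination -hN⟩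
  obtain ⟨r, hr⟩ := exists_int_of_mul (hint 1) (n := -(k : ℤ) - ((p : ℤ) - 1) * s) (d := p)
    hp.ne_zero (by rw [hs] at e1; push_cast; linear_combination -e1)
  rw [hs, hr] at e1 e2
  have h1 : (k : ℤ) + (p : ℤ) * r + ((p : ℤ) - 1) * s = 0 := by
    have h : ((k : ℤ) + (p : ℤ) * r + ((p : ℤ) - 1) * s : ℂ) = 0 := by
      push_cast; linear_combination -e1
    exact_mod_cast h
  have h2 : (k : ℤ) ^ 2 + (p : ℤ) * r ^ 2 + ((p : ℤ) - 1) * s ^ 2 = 2 * (p : ℤ) * k := by
    have h : (((k : ℤ) ^ 2 + (p : ℤ) * r ^ 2 + ((p : ℤ) - 1) * s ^ 2 : ℤ) : ℂ) =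
        ((2 * (p : ℤ) * k : ℤ) : ℂ) := by
      push_cast at e2 ⊢; linear_combination -e2
    exact_mod_cast h
  -- valencies one and `2p - 2` would make a second point fixed by a stabiliser
  have hno : ∀ c : Ω, c ≠ a₀ → ¬ ∀ g : G, g • a₀ = a₀ → g • c = c := by
    intro c hc hfix
    obtain ⟨-, -, hprime, hcard⟩ := Perm.regular_prime_of_fixes_second (Ne.symm hc) hfix
    rw [Nat.card_eq_fintype_card, hΩ] at hcard
    rw [← hcard] at hprime
    exact Nat.not_prime_mul (by norm_num) hp.one_lt.ne' hprime
  have hfin : ∀ y, (Finset.univ.filter (R y)).card = k := fun y => by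
    rw [← hk y, Nat.card_eq_fintype_card, Fintype.card_subtype]
  have hab : R a₀ b := ⟨1, one_smul G _⟩
  have hk2 : 2 ≤ k := by
    by_contra h
    refine hno b hb fun g hg => ?_
    have h' : R a₀ (g • b) := by have := hRinv g a₀ b hab; rwa [hg] at this
    exact Finset.card_le_one.1 (by rw [hfin]; omega) _ (Finset.mem_filter.2 ⟨Finset.mem_univ _, h'⟩)
      _ (Finset.mem_filter.2 ⟨Finset.mem_univ _, hab⟩)
  set D := (Finset.univ.filter fun z => z ≠ a₀ ∧ ¬ R a₀ z) with hD
  have hDc : D.card + k + 1 = 2 * p := by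
    rw [← hΩ, ← Finset.card_univ, ← hfin a₀, hD]
    rw [show (Finset.univ : Finset Ω) = insert a₀ ((Finset.univ.filter fun z => z ≠ a₀ ∧ ¬ R a₀ z) ∪
      Finset.univ.filter (R a₀)) from by ext z; simp; tauto]
    rw [Finset.card_insert_of_notMem (by simp [hirrR a₀]), Finset.card_union_of_disjoint]
    · congr 1
      congr 1
      · congr 1; ext z; simp; tauto
      · congr 1; ext z; simp; tauto
    · rw [Finset.disjoint_filter]; tauto
  have hD0 : D.Nonempty := by
    by_contra hne
    rw [Finset.not_nonempty_iff_eq_empty, hD, Finset.filter_eq_empty_iff] at hne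
    haveI : Fintype (Quotient (MulAction.orbitRel G (Ω × Ω))) := Fintype.ofFinite _
    let q : Ω × Ω → Quotient (MulAction.orbitRel G (Ω × Ω)) := Quotient.mk _
    have hsub : (Finset.univ : Finset (Quotient (MulAction.orbitRel G (Ω × Ω)))) ⊆
        {q (a₀, a₀), q (a₀, b)} := by
      intro w _
      induction w using Quotient.inductionOn with
      | _ w =>
        obtain ⟨g, hg⟩ := MulAction.exists_smul_eq G w.1 a₀
        have hw : q w = q (a₀, g • w.2) := Quotient.sound
          (MulAction.orbitRel_apply.2 ⟨g⁻¹, Prod.ext (inv_smul_eq_iff.2 hg.symm) (inv_smul_smul g _)⟩)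
        show q w ∈ _
        rw [hw]
        by_cases hz : g • w.2 = a₀
        · rw [hz]; simp
        · have h : R a₀ (g • w.2) := not_not.1 fun hR => hne (Finset.mem_univ (g • w.2)) ⟨hz, hR⟩
          rw [show q (a₀, g • w.2) = q (a₀, b) from Quotient.sound (MulAction.orbitRel_apply.2 h)]
          simp
    have := (Finset.card_le_card hsub).trans Finset.card_le_two
    rw [Finset.card_univ, ← Nat.card_eq_fintype_card, hr3] at this
    omega
  have hkl : k + 3 ≤ 2 * p := by
    by_contra h
    obtain ⟨c, hc⟩ := hD0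
    have hcard : D.card ≤ 1 := by omega
    obtain ⟨-, hca, hcR⟩ := Finset.mem_filter.1 hc
    refine hno c hca fun g hg => ?_
    refine Finset.card_le_one.1 hcard _ (Finset.mem_filter.2 ⟨Finset.mem_univ _, ?_, ?_⟩) _ hc
    · exact fun he => hca (MulAction.injective g (he.trans hg.symm))
    · intro hR
      have h' := hRinv g⁻¹ _ _ hR
      rw [inv_smul_smul, inv_smul_eq_iff.2 hg.symm] at h'
      exact hcR h'
  exact arith h3 hk2 hkl h1 h2

end Cfsg.Agent.TwoP
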